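import Mathlib
import Groth.Prelude.Def_GrMod2
import Groth.Agent.Lib.Helper3.GrTildeAux

/-!
# `M~ = 0` iff `(TN)` for graded modules satisfying `(TF)` (helper3)
-/

set_option autoImplicit false

universe u

open AlgebraicGeometry CategoryTheory CategoryTheory.Limits TopologicalSpace Opposite DirectSum

namespace Groth.Agent.H3.GrTildeTN

variable {R A : Type u} [CommRing R] [CommRing A] [Algebra R A] (𝒜 : ℕ → Submodule R A) [GradedAlgebra 𝒜]
variable {M : Type u} [AddCommGroup M] [Module R M] [Module A M] (ℳ : ℕ → Submodule R M)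

/-- if the irrelevant ideal is generated in degree one, `𝒜 m ⊆ (S_+)^m`. -/
lemma graded_le_pow (hgen : (HomogeneousIdeal.irrelevant 𝒜).toIdeal = Ideal.span (𝒜 1 : Set A))
    (m : ℕ) {a : A} (ha : a ∈ 𝒜 m) : a ∈ (Ideal.span (𝒜 1 : Set A)) ^ m := by
  classical
  induction m generalizing a with
  | zero => simp
  | succ m ih =>
    have hirr : a ∈ (HomogeneousIdeal.irrelevant 𝒜).toIdeal :=
      GrTildeAux.mem_irrelevant_of_mem 𝒜 (Nat.succ_pos m) ha
    rw [hgen] at hirr
    obtain ⟨f, t, hts, -, hsum⟩ := Submodule.mem_span_iff_exists_finset_subset.1 hirr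
    have h1 : a = ((DirectSum.decompose 𝒜 a (m + 1) : 𝒜 (m + 1)) : A) :=
      (DirectSum.decompose_of_mem_same 𝒜 ha).symm
    rw [h1, ← hsum, DirectSum.decompose_sum, DFinsupp.finsetSum_apply,
      AddSubmonoidClass.coe_finsetSum]
    refine Ideal.sum_mem _ fun g hg => ?_
    have hg1 : g ∈ 𝒜 1 := hts hg
    rw [smul_eq_mul, DirectSum.coe_decompose_mul_of_right_mem_of_le 𝒜 hg1 (by omega : 1 ≤ m + 1),
      pow_succ]
    exact Ideal.mul_mem_mul (ih (SetLike.coe_mem _)) (Ideal.subset_span hg1)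

/-- the homogeneous components of `a • m` for homogeneous `m`. -/
lemma coe_decompose_smul_of_mem [DirectSum.Decomposition ℳ] [SetLike.GradedSMul 𝒜 ℳ]
    {d : ℕ} {m : M} (hm : m ∈ ℳ d) (a : A) (k : ℕ) (hdk : d ≤ k) :
    ((DirectSum.decompose ℳ (a • m) k : ℳ k) : M) = (DirectSum.decompose 𝒜 a (k - d) : A) • m := by
  classical
  have hsum : a • m = ∑ j ∈ (DirectSum.decompose 𝒜 a).support, (DirectSum.decompose 𝒜 a j : A) • m := by
    conv_lhs => rw [← DirectSum.sum_support_decompose 𝒜 a, Finset.sum_smul]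
  have hmem : ∀ j, (DirectSum.decompose 𝒜 a j : A) • m ∈ ℳ (j + d) := fun j =>
    SetLike.GradedSMul.smul_mem (DirectSum.decompose 𝒜 a j).2 hm
  rw [hsum, DirectSum.decompose_sum, DFinsupp.finsetSum_apply, AddSubmonoidClass.coe_finsetSum]
  by_cases hj : (k - d) ∈ (DirectSum.decompose 𝒜 a).support
  · rw [Finset.sum_eq_single (k - d)]
    · have : k - d + d = k := by omega
      have h2 := hmem (k - d)
      rw [this] at h2
      rw [DirectSum.decompose_of_mem_same ℳ h2]
    · intro j _ hjk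
      exact DirectSum.decompose_of_mem_ne ℳ (hmem j) (by omega)
    · intro hj'; exact absurd hj hj'
  · have h0 : DirectSum.decompose 𝒜 a (k - d) = 0 := by simpa [DFinsupp.mem_support_iff] using hj
    rw [h0, ZeroMemClass.coe_zero, zero_smul]
    refine Finset.sum_eq_zero fun j hjs => ?_
    by_cases hjk : j + d = k
    · exfalso
      have : j = k - d := by omega
      exact hj (this ▸ hjs)
    · exact DirectSum.decompose_of_mem_ne ℳ (hmem j) hjk

/-- `(TN)` implies that powers of homogeneous elements of positive degree kill every element. -/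
lemma exists_pow_smul_eq_zero_of_TN [DirectSum.Decomposition ℳ] [SetLike.GradedSMul 𝒜 ℳ]
    {n : ℕ} (hn : ∀ k : ℕ, n ≤ k → ℳ k = ⊥) (z : M) {d : ℕ} {f : A} (hd : 0 < d) (hf : f ∈ 𝒜 d) :
    ∃ k : ℕ, f ^ k • z = 0 := by
  classical
  refine ⟨n, ?_⟩
  rw [← DirectSum.sum_support_decompose ℳ z, Finset.smul_sum]
  refine Finset.sum_eq_zero fun i _ => ?_
  have h1 : f ^ n ∈ 𝒜 (n • d) := SetLike.pow_mem_graded n hf
  have h2 : f ^ n • ((DirectSum.decompose ℳ z i : ℳ i) : M) ∈ ℳ (n • d + i) :=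
    SetLike.GradedSMul.smul_mem h1 (DirectSum.decompose ℳ z i).2
  have h3 : n ≤ n • d + i := by
    have : n * 1 ≤ n * d := Nat.mul_le_mul_left n hd
    simp only [smul_eq_mul]; omega
  rw [hn _ h3] at h2
  exact (Submodule.mem_bot R).1 h2

/-- `M~ = 0` implies `(TN)` under `(TF)`. -/
lemma TN_of_forall_pow_smul [DirectSum.Decomposition ℳ] [SetLike.GradedSMul 𝒜 ℳ]
    (hfg : (HomogeneousIdeal.irrelevant 𝒜).toIdeal.FG)
    (hgen : (HomogeneousIdeal.irrelevant 𝒜).toIdeal = Ideal.span (𝒜 1 : Set A))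
    (hTF : ∃ n : ℕ, (Submodule.span A (⋃ k ∈ Set.Ici n, (ℳ k : Set M))).FG)
    (h : ∀ (z : M) (d : ℕ) (f : A), 0 < d → f ∈ 𝒜 d → ∃ k : ℕ, f ^ k • z = 0) :
    ∃ n : ℕ, ∀ k : ℕ, n ≤ k → ℳ k = ⊥ := by
  classical
  obtain ⟨n, hN⟩ := hTF
  obtain ⟨s, hs, hspan⟩ := (Submodule.fg_span_iff_fg_span_finset_subset _).1 hN
  -- the generators are homogeneous of degree `≥ n`
  have hdeg : ∀ m ∈ s, ∃ d : ℕ, n ≤ d ∧ m ∈ ℳ d := by
    intro m hm
    have := hs hm
    simp only [Set.mem_iUnion, Set.mem_Ici, SetLike.mem_coe, exists_prop] at this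
    exact this
  choose! deg hdeg1 hdeg2 using hdeg
  -- the irrelevant ideal is contained in the radical of the annihilator of the generators
  let I : Ideal A := Ideal.span (𝒜 1 : Set A)
  let J : Ideal A := (Submodule.span A (s : Set M)).annihilator
  have hIJ : I ≤ J.radical := by
    refine Ideal.span_le.2 fun g hg => ?_
    have hg1 : g ∈ 𝒜 1 := hg
    choose e he using fun m : M => h m 1 g Nat.one_pos hg1
    refine ⟨s.sup e, ?_⟩
    rw [Submodule.mem_annihilator_span]
    rintro ⟨m, hm⟩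
    have hle : e m ≤ s.sup e := Finset.le_sup hm
    obtain ⟨c, hc⟩ := Nat.exists_eq_add_of_le hle
    show g ^ s.sup e • m = 0
    rw [hc, add_comm, pow_add, mul_smul, he m, smul_zero]
  have hIfg : I.FG := by rw [hgen] at hfg; exact hfg
  obtain ⟨E, hE⟩ := Ideal.exists_pow_le_of_le_radical_of_fg hIJ hIfg
  refine ⟨n + s.sup deg + E, fun k hk => ?_⟩
  rw [eq_bot_iff]
  intro z hz
  rw [Submodule.mem_bot]
  have hzN : z ∈ Submodule.span A (s : Set M) := by
    rw [← hspan]
    refine Submodule.subset_span ?_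
    simp only [Set.mem_iUnion, Set.mem_Ici, SetLike.mem_coe, exists_prop]
    exact ⟨k, by omega, hz⟩
  obtain ⟨c, -, hc⟩ := Submodule.mem_span_finset.1 hzN
  have h1 : z = ((DirectSum.decompose ℳ z k : ℳ k) : M) :=
    (DirectSum.decompose_of_mem_same ℳ hz).symm
  rw [h1, ← hc, DirectSum.decompose_sum, DFinsupp.finsetSum_apply,
    AddSubmonoidClass.coe_finsetSum]
  refine Finset.sum_eq_zero fun m hm => ?_
  have hdk : deg m ≤ k := by
    have : deg m ≤ s.sup deg := Finset.le_sup hm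
    omega
  rw [coe_decompose_smul_of_mem 𝒜 ℳ (hdeg2 m hm) (c m) k hdk]
  have h2 : ((DirectSum.decompose 𝒜 (c m) (k - deg m) : 𝒜 (k - deg m)) : A) ∈ I ^ (k - deg m) :=
    graded_le_pow 𝒜 hgen _ (SetLike.coe_mem _)
  have h3 : I ^ (k - deg m) ≤ I ^ E := by
    apply Ideal.pow_le_pow_right
    have : deg m ≤ s.sup deg := Finset.le_sup hm
    omega
  have h4 := hE (h3 h2)
  rw [Submodule.mem_annihilator_span] at h4
  exact h4 ⟨m, hm⟩

end Groth.Agent.H3.GrTildeTN
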